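import Cfsg.Agent.Mult.Fam

set_option autoImplicit false
set_option Elab.async false
set_option maxRecDepth 100000
set_option linter.all false

namespace Cfsg.Agent.U43C
open Cfsg.Agent.CGT

open Cfsg.Agent.Mult

noncomputable def ix : Ix (Fin 4) := ⟨Fin.val, 4, by decide, by decide, by decide⟩
noncomputable def Es : List (List ℕ × List ℕ × ℕ) := [([1, 3, 0, 0], [0, 0, 0, 0], 4), ([1, 3, 0, 0], [0, 0, 0, 0], 8), ([1, 3, 0, 0], [0, 0, 1, 0], 2), ([1, 3, 0, 0], [0, 0, 2, 0], 2), ([1, 3, 0, 0], [0, 0, 3, 0], 1), ([1, 3, 0, 0], [0, 0, 4, 0], 2), ([1, 3, 0, 0], [0, 0, 5, 0], 1), ([1, 3, 0, 0], [0, 0, 6, 0], 1), ([1, 3, 0, 0], [0, 0, 7, 0], 1), ([1, 3, 0, 0], [0, 0, 8, 0], 2), ([1, 3, 0, 0], [0, 0, 0, 1], 2), ([1, 3, 0, 0], [0, 0, 0, 2], 2), ([1, 3, 0, 0], [0, 0, 0, 3], 1), ([1, 3, 0, 0],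 [0, 0, 0, 4], 2), ([1, 3, 0, 0], [0, 0, 0, 5], 1), ([1, 3, 0, 0], [0, 0, 0, 6], 1), ([1, 3, 0, 0], [0, 0, 0, 7], 1), ([1, 3, 0, 0], [0, 0, 0, 8], 2), ([2, 3, 0, 0], [0, 0, 0, 0], 4), ([2, 3, 0, 0], [0, 0, 0, 0], 8), ([2, 3, 0, 0], [0, 0, 1, 0], 2), ([2, 3, 0, 0], [0, 0, 2, 0], 2), ([2, 3, 0, 0], [0, 0, 3, 0], 1), ([2, 3, 0, 0], [0, 0, 4, 0], 2), ([2, 3, 0, 0], [0, 0, 5, 0], 1), ([2, 3, 0, 0], [0, 0, 6, 0], 1), ([2, 3, 0, 0], [0, 0, 7, 0], 1), ([2, 3, 0, 0], [0, 0, 8, 0], 2), ([2, 3, 0, 0], [0, 0, 0, 1], 2), ([2, 3, 0, 0], [0, 0, 0, 2], 2), ([2, 3, 0, 0], [0, 0, 0, 3], 1), ([2, 3, 0, 0], [0, 0, 0, 4], 2), ([2, 3, 0, 0], [0, 0, 0, 5], 1), ([2, 3, 0, 0], [0, 0, 0, 6], 1), ([2, 3, 0, 0], [0, 0, 0, 7], 1), ([2, 3, 0, 0], [0, 0, 0, 8], 2)]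
noncomputable def Bs : List Pl := [[(8, 2), (0xc, 3), (0xa, 5), (5, 0), (0x10, 0), (0x20, 0), (0x40, 0), (0x80, 0)],
  [(2, 9), (1, 0xc), (1, 0xa), (0, 0xd), (0x10, 0), (0x20, 0), (0x40, 0), (0x80, 0)],
  [(4, 0x19), (0, 0x26), (2, 0x20), (3, 0x30), (0x15, 8), (0x22, 4), (0x40, 0), (0x80, 0)],
  [(0x14, 9), (0x20, 6), (0x22, 0), (0x33, 0), (0x18, 5), (0x24, 2), (0x40, 0), (0x80, 0)],
  [(0x28, 0x14), (0x14, 0), (0x10, 6), (0x20, 0xb), (0x12, 4), (0x23, 8), (0x40, 0), (0x80, 0)],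
  [(0x34, 9), (0x10, 0x26), (0x12, 0x20), (3, 0x10), (0x13, 8), (0x21, 0xe), (0x40, 0), (0x80, 0)],
  [(0x28, 4), (0x34, 0), (0x30, 6), (0x10, 0x2b), (0x1e, 1), (0x25, 8), (0x40, 0), (0x80, 0)],
  [(0x18, 0x24), (4, 0x10), (0, 0x16), (0, 0x2b), (0x14, 2), (0x28, 3), (0x40, 0), (0x80, 0)],
  [(8, 0x24), (4, 0x30), (0, 0x36), (0x20, 0x1b), (0x11, 0xe), (0x28, 5), (0x40, 0), (0x80, 0)],
  [(4, 0x39), (0x20, 0x16), (0x22, 0x10), (0x13, 0), (0x18, 3), (0x2e, 1), (0x40, 0), (0x80, 0)],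
  [(4, 0x49), (0, 0x86), (2, 0x80), (3, 0xc0), (0x10, 0), (0x20, 0), (0x45, 8), (0x82, 4)],
  [(0x44, 9), (0x80, 6), (0x82, 0), (0xc3, 0), (0x10, 0), (0x20, 0), (0x48, 5), (0x84, 2)],
  [(0x88, 0x44), (0x44, 0), (0x40, 6), (0x80, 0xb), (0x10, 0), (0x20, 0), (0x42, 4), (0x83, 8)],
  [(0xc4, 9), (0x40, 0x86), (0x42, 0x80), (3, 0x40), (0x10, 0), (0x20, 0), (0x43, 8), (0x81, 0xe)],
  [(0x88, 4), (0xc4, 0), (0xc0, 6), (0x40, 0x8b), (0x10, 0), (0x20, 0), (0x4e, 1), (0x85, 8)],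
  [(0x48, 0x84), (4, 0x40), (0, 0x46), (0, 0x8b), (0x10, 0), (0x20, 0), (0x44, 2), (0x88, 3)],
  [(8, 0x84), (4, 0xc0), (0, 0xc6), (0x80, 0x4b), (0x10, 0), (0x20, 0), (0x41, 0xe), (0x88, 5)],
  [(4, 0xc9), (0x80, 0x46), (0x82, 0x40), (0x43, 0), (0x10, 0), (0x20, 0), (0x48, 3), (0x8e, 1)],
  [(0, 0xa), (0, 0xf), (9, 6), (4, 1), (0x10, 0), (0x20, 0), (0x40, 0), (0x80, 0)],
  [(0xa, 1), (0xd, 0), (2, 9), (1, 0xc), (0x10, 0), (0x20, 0), (0x40, 0), (0x80, 0)],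
  [(0x18, 5), (0x24, 2), (0, 0x22), (0, 0x33), (0x14, 9), (0x20, 6), (0x40, 0), (0x80, 0)],
  [(8, 0x15), (4, 0x22), (0x20, 2), (0x30, 3), (0x19, 4), (0x26, 0), (0x40, 0), (0x80, 0)],
  [(0x14, 0x28), (0, 0x14), (0x12, 4), (0x23, 8), (0x10, 6), (0x20, 0xb), (0x40, 0), (0x80, 0)],
  [(8, 0x35), (0x24, 0x12), (0x10, 0x22), (0, 0x13), (0x10, 0xb), (0x22, 0xd), (0x40, 0), (0x80, 0)],
  [(4, 0x28), (0, 0x34), (0x32, 4), (0x13, 0x28), (0x1d, 2), (0x24, 9), (0x40, 0), (0x80, 0)],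
  [(0x24, 0x18), (0x10, 4), (2, 0x14), (3, 0x28), (0x16, 0), (0x2b, 0), (0x40, 0), (0x80, 0)],
  [(0x24, 8), (0x30, 4), (2, 0x34), (0x23, 0x18), (0x12, 0xd), (0x29, 4), (0x40, 0), (0x80, 0)],
  [(0x38, 5), (0x14, 0x22), (0x20, 0x12), (0x10, 3), (0x1b, 0), (0x2d, 2), (0x40, 0), (0x80, 0)],
  [(0x48, 5), (0x84, 2), (0, 0x82), (0, 0xc3), (0x10, 0), (0x20, 0), (0x44, 9), (0x80, 6)],
  [(8, 0x45), (4, 0x82), (0x80, 2), (0xc0, 3), (0x10, 0), (0x20, 0), (0x49, 4), (0x86, 0)],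
  [(0x44, 0x88), (0, 0x44), (0x42, 4), (0x83, 8), (0x10, 0), (0x20, 0), (0x40, 6), (0x80, 0xb)],
  [(8, 0xc5), (0x84, 0x42), (0x40, 0x82), (0, 0x43), (0x10, 0), (0x20, 0), (0x40, 0xb), (0x82, 0xd)],
  [(4, 0x88), (0, 0xc4), (0xc2, 4), (0x43, 0x88), (0x10, 0), (0x20, 0), (0x4d, 2), (0x84, 9)],
  [(0x84, 0x48), (0x40, 4), (2, 0x44), (3, 0x88), (0x10, 0), (0x20, 0), (0x46, 0), (0x8b, 0)],
  [(0x84, 8), (0xc0, 4), (2, 0xc4), (0x83, 0x48), (0x10, 0), (0x20, 0), (0x42, 0xd), (0x89, 4)],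
  [(0xc8, 5), (0x44, 0x82), (0x80, 0x42), (0x40, 3), (0x10, 0), (0x20, 0), (0x4b, 0), (0x8d, 2)]]
theorem h_base : (kpU K9 4 3).Gen kf9 ix [1, 3, 0, 0] [2, 3, 0, 0] Es Bs := by decide +kernel

end Cfsg.Agent.U43C
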