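import Cfsg.Agent.Mult.Slices
import Cfsg.Agent.U43C.PresR

set_option autoImplicit false
set_option Elab.async false
set_option maxRecDepth 100000
set_option linter.all false

namespace Cfsg.Agent.U43C
open Cfsg.Agent.CGT

open Cfsg.Agent.Mult

noncomputable def mulc3a_n0 : Net := Net.cons 64 0x2e34a18d4f0f19a4 <|
  Net.cons 32 0x1b4a7e300000000084b7f5d8 <|
  Net.cons 16 0x940000004c20000013e000000a08 <|
  Net.cons 8 0x800080000000380008009a000e0028 <|
  Net.cons 4 0x606040a02000a08000400000c0806 <|
  Net.cons 2 0x200002000020202000022000002020 <|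
  Net.cons 1 0x1154104050110151105414050541045 <|
  Net.cons 2 0x23212003100021202010132033303131 <|
  Net.cons 4 0xa0d02020a02000a08000b09040c0b05 <|
  Net.cons 8 0x100dc00210078008b009a000e00f4 <|
  Net.cons 16 0x92e300006e2b000013e000006b0c <|
  Net.cons 32 0x1b4e7e300000000084b7f5d8 <|
  Net.cons 64 0x2e34a18d4f0f19a4 <|
  Net.nil
noncomputable def mulc3a_n1 : Net := Net.cons 64 0x68294715a68ba044 <|
  Net.cons 32 0x45622e6000000008293b4c4 <|
  Net.cons 16 0xb2b00000036c00001f740000582a <|
  Net.cons 8 0x42003000740034004200f8000000aa <|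
  Net.cons 4 0x4000c00000804000a02000800000002 <|
  Net.cons 2 0x2000020200202002020000202000 <|
  Net.cons 1 0x54004151510454444011110401104514 <|
  Net.cons 2 0x2131133322213221003001000202231 <|
  Net.cons 4 0xb000e00090804010203040200020302 <|
  Net.cons 8 0x42001e00740039004100f1000800f1 <|
  Net.cons 16 0x91f8000013ec000094ed0000682a <|
  Net.cons 32 0x77e7e650000000082992410 <|
  Net.cons 64 0x680dd395b6312091 <|
  Net.nil
noncomputable def mulc3a_n2 : Net := Net.cons 64 0xb02033539003eb1c <|
  Net.cons 32 0x56966c88000000005042a240 <|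
  Net.cons 16 0x56f40000155200005d780000a976 <|
  Net.cons 8 0x52008200cc0022000800b4004800a8 <|
  Net.cons 4 0xc0402000000040004000808000a0800 <|
  Net.cons 2 0x2022222020202220220000020000200 <|
  Net.cons 1 0x54514441440114111145040410501144 <|
  Net.cons 2 0x21132110032203230320032020103222 <|
  Net.cons 4 0xe0e0708010a030900040300000c0b0b <|
  Net.cons 8 0xe300aa00c7003100010090006800da <|
  Net.cons 16 0x6aaa000012370000451000008152 <|
  Net.cons 32 0x4d9b2da1000000005133e040 <|
  Net.cons 64 0xa426b6f31000af15 <|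
  Net.nil
noncomputable def mulc3a_n3 : Net := Net.cons 64 0xb42055a01f418088 <|
  Net.cons 32 0x821c3d4400000000040589dc <|
  Net.cons 16 0xa1da00002b58000012a000000830 <|
  Net.cons 8 0xa000d0001800240000004e00940070 <|
  Net.cons 4 0x40a04000000000002020a040e040a00 <|
  Net.cons 2 0x2000002000020020020220022200202 <|
  Net.cons 1 0x41400044445410541414440514415401 <|
  Net.cons 2 0x30212133233223010132212113023322 <|
  Net.cons 4 0xe01080f0d030407010a060d06030409 <|
  Net.cons 8 0x8300da0007005900410096001e0046 <|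
  Net.cons 16 0xb0fc000071ff00007d300000fb60 <|
  Net.cons 32 0xf073dcf00000000307f1293 <|
  Net.cons 64 0x8e05f77bfcd0d890 <|
  Net.nil
noncomputable def mulc3a_ns : List Net := [mulc3a_n0, mulc3a_n1, mulc3a_n2, mulc3a_n3]
theorem mulc3a_v : validAll (2 ^ 7) mulc3a_ns = true := by decide +kernel
noncomputable def mulc3a_C : List (ℕ × ℕ) := [(0x14080110800800f008a0070029000000, 0x2454401201a00c20008050c0400000),
  (0x11e015a83ca29d61a71a15078a08824, 0x32c1260054214020810c122c024d4400),
  (0x152818e00383002280030948808020, 0x540866308847028414d302006090012),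
  (0x2100c4824000908801f2b104100a0c0, 0x187a0108044d0011a20840c88ba1000)]
noncomputable def mulc3a_U : ℕ := Nat.sub (Nat.pow 2 126) 1
noncomputable def mulc3a_a : List ℕ := [0, 1, 0, 0, 0, 2, 0, 0, 1, 1, 1, 0, 0, 0]

end Cfsg.Agent.U43C
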